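import Mathlib
import Cfsg.Prelude.Def_Classical
import Cfsg.Prelude.Def_GeometricClasses
import Cfsg.Agent.Lib.helper14.JTa

set_option autoImplicit false
set_option linter.unusedVariables false
set_option linter.unusedSectionVars false

/-!
# Project OPH = statement S5996 (designer helper9): Jordan types of unipotent elements of `Ω⁺_{2d}(q)`, `q` odd

`dk M k = dim ker M^k` and `ek` are those of `Cfsg.Agent.Lib.helper14.JTa`.
-/

namespace Cfsg.Agent.Lib.Helper9.OPH

open Module Cfsg.Agent.Lib.helper14.JTa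

/-- the kernel-dimension function of the Jordan type `μ` : `ty μ k = Σ_{b ∈ μ} min b k` -/
def ty (μ : Multiset ℕ) (k : ℕ) : ℕ := (μ.map (fun b => min b k)).sum

/-- `Real F s μ` : some matrix `T` on `F^(2s)`, skew-adjoint for the polar form of `Cfsg.quadFormPlus s F`,
has `dim ker T^k = ty μ k` for all `k` (so `T` is nilpotent of Jordan type `μ`). -/
def Real (F : Type*) [Field F] (s : ℕ) (μ : Multiset ℕ) : Prop :=
  ∃ T : Matrix (Fin s ⊕ Fin s) (Fin s ⊕ Fin s) F,
    (∀ u v : Fin s ⊕ Fin s → F, QuadraticMap.polar (Cfsg.quadFormPlus s F) (T.mulVec u) v =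
      - QuadraticMap.polar (Cfsg.quadFormPlus s F) u (T.mulVec v)) ∧
    ∀ k, dk (Matrix.toLin' T) k = ty μ k

end Cfsg.Agent.Lib.Helper9.OPH
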